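import Groth.Agent.Lib.Helper19.Where.Iso
import Groth.Agent.Lib.Helper15.FiniteTFAE
import Groth.Agent.Lib.Helper15.AlgSpDescent
import Groth.Agent.Lib.Helper15.AlgSpRed

set_option autoImplicit false
set_option linter.style.haveILetI false
universe u
open CategoryTheory CategoryTheory.Limits AlgebraicGeometry MorphismProperty
open AlgSp Groth.Agent.Helper15 Groth.Agent.Helper16.AS

namespace Groth.Agent.Helper19.Where

variable {S : Scheme.{u}}

/-- a finite monomorphism is a closed immersion -/
theorem repWith_isClosedImmersion_of_finite_mono {F G : Sp S} (f : F ⟶ G) [Mono f]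
    (hf : IsFiniteMor f) : RepWith @IsClosedImmersion f := by
  apply repWith_of_affRep
  intro Z hZ g
  obtain ⟨W, i, fst, sq, hfin⟩ := (isFiniteMor_iff_affRep f).1 hf hZ g
  refine ⟨W, i, fst, sq, ?_⟩
  haveI : Mono ((yon S).map i) := sq.mono_snd_of_mono
  haveI : Mono i := (yon S).mono_of_mono_map inferInstance
  haveI : Mono i.left := inferInstance
  haveI : IsFinite i.left := hfin
  exact (IsClosedImmersion.iff_isFinite_and_mono i.left).2 ⟨inferInstance, inferInstance⟩

theorem isClosedImmersion_le_lft_unramified :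
    (@IsClosedImmersion : MorphismProperty Scheme.{u}) ≤
      (@LocallyOfFiniteType ⊓ @FormallyUnramified : MorphismProperty Scheme.{u}) :=
  fun _ _ g hg => by
    haveI : IsClosedImmersion g := hg
    exact ⟨inferInstance, inferInstance⟩

theorem lft_unramified_le_lqf_lft :
    (@LocallyOfFiniteType ⊓ @FormallyUnramified : MorphismProperty Scheme.{u}) ≤
      (@LocallyQuasiFinite ⊓ @LocallyOfFiniteType : MorphismProperty Scheme.{u}) :=
  fun _ _ g hg => by
    haveI : LocallyOfFiniteType g := hg.1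
    haveI : FormallyUnramified g := hg.2
    exact ⟨locallyQuasiFinite_of_formallyUnramified g, inferInstance⟩

/-- a universally closed morphism is a closed immersion iff it is unramified and universally
injective -/
theorem closedImm_iff {X Y : Sp S} (hX : IsAlgSpace X) (hY : IsAlgSpace Y) (f : X ⟶ Y)
    (huc : IsUnivClosedMor f) :
    RepWith @IsClosedImmersion f ↔
      (LocP (@LocallyOfFiniteType ⊓ @FormallyUnramified) f ∧ IsUnivInjectiveMor f) := by
  constructor
  · intro hcl
    haveI : Mono f := mono_of_repWith isClosedImmersion_le_mono f hcl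
    exact ⟨locP_of_repWith etale_le_lft_unramified f
      (repWith_mono isClosedImmersion_le_lft_unramified hcl),
      (injOnFieldPts_of_mono f).isUnivInjectiveMor⟩
  · rintro ⟨hunr, hinj⟩
    have hd := repWith_isOpenImmersion_diagonal_of_locP_unramified hX hY f hunr
    haveI : Mono f := mono_of_openImmersion_diagonal_of_univInjective hX f hd hinj
    have hsep : IsSeparatedMor f := isSeparatedMor_of_mono f
    have hlqf : LocP (@LocallyQuasiFinite ⊓ @LocallyOfFiniteType) f :=
      locP_mono lft_unramified_le_lqf_lft hunr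
    have hfin := Groth.Agent.Helper15.Norm.isFiniteMor_of_univClosed_separated_lqf hX hY f huc hsep hlqf
    exact repWith_isClosedImmersion_of_finite_mono f hfin

/-- the open subspace of `Z` over which `f` is a closed immersion -/
theorem where_closedImm {X Y Z : Sp S} (hX : IsAlgSpace X) (hY : IsAlgSpace Y)
    (hZ : IsAlgSpace Z) (f : X ⟶ Y) (q : Y ⟶ Z) (hp1 : LocP @LocallyOfFiniteType (f ≫ q))
    (hp2 : IsUnivClosedMor (f ≫ q)) (hq : IsSeparatedMor q) :
    ∃ (W : Sp S) (w : W ⟶ Z), IsAlgSpace W ∧ RepWith @IsOpenImmersion w ∧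
      ∀ (Z' : Sp S) (g : Z' ⟶ Z), IsAlgSpace Z' →
        ((∃ k : Z' ⟶ W, k ≫ w = g) ↔
          ∀ (Y' : Sp S) (gY : Y' ⟶ Y) (q' : Y' ⟶ Z'), IsAlgSpace Y' → IsPullback gY q' q g →
            ∀ (X' : Sp S) (gX : X' ⟶ X) (f' : X' ⟶ Y'), IsAlgSpace X' → IsPullback gX f' f gY →
              RepWith @IsClosedImmersion f') := by
  have hXXa : IsAlgSpace (pullback f f) := isAlgSpace_pullback hX hY hX f f
  obtain ⟨W, w, hW, hw, H⟩ := where_unram_inj hX hY hZ hXXa f q
    (IsPullback.of_hasPullback f f) hp1 (isClosedMor_selfProd hX hZ f q hp2 hq)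
  refine ⟨W, w, hW, hw, fun Z' g hZ' => ?_⟩
  rw [H Z' g hZ']
  have huc : ∀ (Y' : Sp S) (gY : Y' ⟶ Y) (q' : Y' ⟶ Z'), IsAlgSpace Y' → IsPullback gY q' q g →
      ∀ (X' : Sp S) (gX : X' ⟶ X) (f' : X' ⟶ Y'), IsAlgSpace X' → IsPullback gX f' f gY →
        IsUnivClosedMor f' := by
    intro Y' gY q' hY' sqY X' gX f' hX' sqX
    have hq' : IsSeparatedMor q' :=
      (RepWith @IsClosedImmersion).diagonal.of_isPullback sqY hq
    have hp' : IsUnivClosedMor (f' ≫ q') := UnivSp.of_isPullback (sqX.paste_vert sqY) hp2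
    exact isUnivClosedMor_of_comp_separated hX' hY' hZ'.diag f' (f' ≫ q') q' rfl hq' hp'
  constructor
  · intro h Y' gY q' hY' sqY X' gX f' hX' sqX
    exact (closedImm_iff hX' hY' f' (huc Y' gY q' hY' sqY X' gX f' hX' sqX)).2
      (h Y' gY q' hY' sqY X' gX f' hX' sqX)
  · intro h Y' gY q' hY' sqY X' gX f' hX' sqX
    exact (closedImm_iff hX' hY' f' (huc Y' gY q' hY' sqY X' gX f' hX' sqX)).1
      (h Y' gY q' hY' sqY X' gX f' hX' sqX)

end Groth.Agent.Helper19.Where
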