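import Groth.Agent.Lib.Helper19.FibFlat.Thick
import Groth.Agent.Lib.Helper15.AlgSpOpen

set_option autoImplicit false
set_option linter.style.haveILetI false
universe u
open CategoryTheory CategoryTheory.Limits AlgebraicGeometry MorphismProperty
open AlgSp Groth.Agent.Helper15 Groth.Agent.Helper16.AS

namespace Groth.Agent.Helper19.Where

variable {S : Scheme.{u}}

/-- the open subspace of `Z` over which a closed subset of `|Z|` is avoided -/
theorem exists_open_avoiding {Z : Sp S} (hZ : IsAlgSpace Z) (C : Set (Points Z)) (hC : IsClosed C) :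
    ∃ (W : Sp S) (w : W ⟶ Z), IsAlgSpace W ∧ RepWith @IsOpenImmersion w ∧
      ∀ (Z' : Sp S) (g : Z' ⟶ Z),
        ((∃ k : Z' ⟶ W, k ≫ w = g) ↔ ∀ z' : Points Z', Points.map g z' ∉ C) := by
  obtain ⟨W, w, hW, hw, hr⟩ := exists_open_subspace_of_isOpen hZ Cᶜ hC.isOpen_compl
  refine ⟨W, w, hW, hw, fun Z' g => ?_⟩
  rw [factors_through_open_iff w hw g, hr]
  constructor
  · intro h z'
    exact h ⟨z', rfl⟩
  · rintro h _ ⟨z', rfl⟩
    exact h z'

/-- points of a double base change -/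
theorem exists_point_over {X Y Z X' Y' Z' : Sp S} {f : X ⟶ Y} {q : Y ⟶ Z} {g : Z' ⟶ Z}
    {gY : Y' ⟶ Y} {q' : Y' ⟶ Z'} {gX : X' ⟶ X} {f' : X' ⟶ Y'}
    (hY : IsPullback gY q' q g) (hX : IsPullback gX f' f gY) (x : Points X) (z' : Points Z')
    (h : Points.map (f ≫ q) x = Points.map g z') :
    ∃ x' : Points X', Points.map gX x' = x ∧ Points.map (f' ≫ q') x' = z' :=
  exists_point_of_isPullback (hX.paste_vert hY) x z' h

/-- the flat locus of `f` on a chart -/
theorem isFlatAtMor_iff_chart {X Y : Sp S} (hX : IsAlgSpace X) (hY : IsAlgSpace Y) (f : X ⟶ Y)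
    {U V : Over S} (a : (yon S).obj U ⟶ X) (b : (yon S).obj V ⟶ Y) (h : U ⟶ V)
    (ha : RepWith @Etale a) (hb : RepWith @Etale b) (comm : a ≫ f = (yon S).map h ≫ b)
    [LocallyOfFinitePresentation h.left] (u : U.left) :
    IsFlatAtMor f (Points.ofPt a u) ↔ (h.left.stalkMap u).hom.Flat :=
  ⟨fun hx => hx a b h u ha hb comm rfl,
    fun hu => Groth.Agent.Helper19.FibFlatLfp.isFlatAtMor_of_chart hX hY f a b h ha hb comm u hu⟩

/-- the image of the flat locus of a morphism locally of finite presentation is open -/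
theorem isOpen_image_flatLocus {X Y : Sp S} (hX : IsAlgSpace X) (hY : IsAlgSpace Y) (f : X ⟶ Y)
    (hf : LocP @LocallyOfFinitePresentation f) :
    IsOpen (Points.map f '' {x | IsFlatAtMor f x}) := by
  obtain ⟨V₀, qV, hqVe, hqVs⟩ := hY.atlas
  obtain ⟨U₀, qU, a₀, hqUe, hqUs, hcU⟩ := exists_chart_lift hX f qV hqVe hqVs
  haveI : LocallyOfFinitePresentation a₀.left := hf qU qV a₀ hqUe hqVe hcU
  let UT : U₀.left.Opens := ⟨{u | (a₀.left.stalkMap u).hom.Flat},
    Groth.Agent.Helper21.FL.isOpen_flatLocus_scheme a₀.left⟩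
  haveI : Flat (UT.ι ≫ a₀.left) := by
    refine Flat.of_stalkMap _ fun p => ?_
    exact (Groth.Agent.Helper19.FibFlatLfp.stalkMap_flat_iff_of_flat_left UT.ι a₀.left p).2 (by
      change (a₀.left.stalkMap p.1).hom.Flat
      exact p.2)
  haveI : LocallyOfFinitePresentation (UT.ι ≫ a₀.left) := inferInstance
  have hop : IsOpen (a₀.left '' (UT : Set U₀.left)) := by
    have h1 : IsOpen (Set.range (UT.ι ≫ a₀.left)) := (UT.ι ≫ a₀.left).isOpenMap.isOpen_range
    have h2 : Set.range (UT.ι ≫ a₀.left) = a₀.left '' (UT : Set U₀.left) := by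
      ext v
      constructor
      · rintro ⟨p, rfl⟩
        exact ⟨p.1, p.2, rfl⟩
      · rintro ⟨u, hu, rfl⟩
        exact ⟨⟨u, hu⟩, rfl⟩
    rwa [h2] at h1
  have : Points.map f '' {x | IsFlatAtMor f x} = Points.ofPt qV '' (a₀.left '' (UT : Set U₀.left)) := by
    ext y
    constructor
    · rintro ⟨x, hx, rfl⟩
      obtain ⟨u, rfl⟩ := surjective_ofPt qU hqUs x
      refine ⟨a₀.left u, ⟨u, (isFlatAtMor_iff_chart hX hY f qU qV a₀ hqUe hqVe hcU u).1 hx, rfl⟩, ?_⟩
      rw [Points.map_ofPt, hcU, ofPt_comp_yon_map]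
    · rintro ⟨_, ⟨u, hu, rfl⟩, rfl⟩
      refine ⟨Points.ofPt qU u, (isFlatAtMor_iff_chart hX hY f qU qV a₀ hqUe hqVe hcU u).2 hu, ?_⟩
      rw [Points.map_ofPt, hcU, ofPt_comp_yon_map]
  rw [this]
  exact isOpenMap_ofPt_of_etale qV hqVe _ hop

/-- `LocP lfp` cancels a second factor locally of finite type -/
theorem locP_lfp_of_comp {X Y Z : Sp S} (hX : IsAlgSpace X) (hY : IsAlgSpace Y) (hZ : IsAlgSpace Z)
    (f : X ⟶ Y) (q : Y ⟶ Z) (hp : LocP @LocallyOfFinitePresentation (f ≫ q))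
    (hq : LocP @LocallyOfFiniteType q) : LocP @LocallyOfFinitePresentation f := by
  obtain ⟨W₀, qW, hqWe, hqWs⟩ := hZ.atlas
  obtain ⟨V₀, qV, b₀, hqVe, hqVs, hcV⟩ := exists_chart_lift hY q qW hqWe hqWs
  obtain ⟨U₀, qU, a₀, hqUe, hqUs, hcU⟩ := exists_chart_lift hX f qV hqVe hqVs
  have hcUW : qU ≫ f ≫ q = (yon S).map (a₀ ≫ b₀) ≫ qW := by
    rw [← Category.assoc, hcU, Category.assoc, hcV, Functor.map_comp, Category.assoc]
  have hlfp : LocallyOfFinitePresentation (a₀.left ≫ b₀.left) :=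
    hp qU qW (a₀ ≫ b₀) hqUe hqWe hcUW
  have hlft : LocallyOfFiniteType b₀.left := hq qV qW b₀ hqVe hqWe hcV
  have : LocallyOfFinitePresentation a₀.left :=
    Groth.Agent.Helper7.locallyOfFinitePresentation_of_comp _ _ hlfp hlft
  exact locP_of_one_chart goodP_lfp srcEtLoc_lfp hX hY f qU qV a₀ hqUe hqUs hqVe hcU this

/-- the open subspace of `Z` over which `f` is flat, and the one over which it is flat and
surjective -/
theorem where_flat {X Y Z : Sp S} (hX : IsAlgSpace X) (hY : IsAlgSpace Y) (hZ : IsAlgSpace Z)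
    (f : X ⟶ Y) (q : Y ⟶ Z) (hp1 : LocP @LocallyOfFinitePresentation (f ≫ q))
    (hp2 : LocP @Flat (f ≫ q)) (hp3 : IsClosedMor (f ≫ q)) (hq : LocP @LocallyOfFiniteType q) :
    ∃ (W : Sp S) (w : W ⟶ Z), IsAlgSpace W ∧ RepWith @IsOpenImmersion w ∧
      ∀ (Z' : Sp S) (g : Z' ⟶ Z), IsAlgSpace Z' →
        ((∃ k : Z' ⟶ W, k ≫ w = g) ↔
          ∀ (Y' : Sp S) (gY : Y' ⟶ Y) (q' : Y' ⟶ Z'), IsAlgSpace Y' → IsPullback gY q' q g →
            ∀ (X' : Sp S) (gX : X' ⟶ X) (f' : X' ⟶ Y'), IsAlgSpace X' → IsPullback gX f' f gY →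
              LocP @Flat f') := by
  obtain ⟨hTo, hbc⟩ := Groth.Agent.Helper19.FibFlatLfp.isOpen_flatLocus_and_baseChange hX hY hZ f q
    hp1 hp2 hq
  obtain ⟨W, w, hW, hw, H⟩ := exists_open_avoiding hZ
    (Points.map (f ≫ q) '' {x | IsFlatAtMor f x}ᶜ) (hp3 _ hTo.isClosed_compl)
  refine ⟨W, w, hW, hw, fun Z' g hZ' => ?_⟩
  rw [H Z' g]
  constructor
  · intro h Y' gY q' hY' sqY X' gX f' hX' sqX
    refine Groth.Agent.Helper19.FibFlatLfp.locP_flat_of_forall_isFlatAtMor f' fun x' => ?_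
    have hx' : x' ∈ {x' | IsFlatAtMor f' x'} := by
      rw [hbc X' Y' Z' hX' hY' hZ' g f' q' gX gY sqY sqX]
      by_contra hn
      refine h (Points.map (f' ≫ q') x') ⟨Points.map gX x', hn, ?_⟩
      rw [← Points.map_comp, ← Points.map_comp, (sqX.paste_vert sqY).w]
    exact hx'
  · intro h z' hz'
    obtain ⟨x, hx, hxz⟩ := hz'
    have hY' : IsAlgSpace (pullback q g) := isAlgSpace_pullback hY hZ hZ' q g
    have hX' : IsAlgSpace (pullback f (pullback.fst q g)) :=
      isAlgSpace_pullback hX hY hY' f (pullback.fst q g)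
    have sqY := IsPullback.of_hasPullback q g
    have sqX := IsPullback.of_hasPullback f (pullback.fst q g)
    have hfl := h _ _ _ hY' sqY _ _ _ hX' sqX
    obtain ⟨x', hx'1, -⟩ := exists_point_over sqY sqX x z' hxz
    have := Groth.Agent.Helper19.FibFlatLfp.isFlatAtMor_of_locP_flat _ hfl x'
    have hmem : x' ∈ {x' | IsFlatAtMor (pullback.snd f (pullback.fst q g)) x'} := this
    rw [hbc _ _ Z' hX' hY' hZ' g _ _ _ _ sqY sqX] at hmem
    rw [Set.mem_preimage, hx'1] at hmem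
    exact hx hmem

/-- the open subspace of `Z` over which `f` is flat and surjective -/
theorem where_flat_surj {X Y Z : Sp S} (hX : IsAlgSpace X) (hY : IsAlgSpace Y) (hZ : IsAlgSpace Z)
    (f : X ⟶ Y) (q : Y ⟶ Z) (hp1 : LocP @LocallyOfFinitePresentation (f ≫ q))
    (hp2 : LocP @Flat (f ≫ q)) (hp3 : IsClosedMor (f ≫ q)) (hq : LocP @LocallyOfFiniteType q)
    (hq2 : IsClosedMor q) :
    ∃ (W : Sp S) (w : W ⟶ Z), IsAlgSpace W ∧ RepWith @IsOpenImmersion w ∧
      ∀ (Z' : Sp S) (g : Z' ⟶ Z), IsAlgSpace Z' →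
        ((∃ k : Z' ⟶ W, k ≫ w = g) ↔
          ∀ (Y' : Sp S) (gY : Y' ⟶ Y) (q' : Y' ⟶ Z'), IsAlgSpace Y' → IsPullback gY q' q g →
            ∀ (X' : Sp S) (gX : X' ⟶ X) (f' : X' ⟶ Y'), IsAlgSpace X' → IsPullback gX f' f gY →
              (IsSurjectiveMor f' ∧ LocP @Flat f')) := by
  obtain ⟨hTo, hbc⟩ := Groth.Agent.Helper19.FibFlatLfp.isOpen_flatLocus_and_baseChange hX hY hZ f q
    hp1 hp2 hq
  have hflfp : LocP @LocallyOfFinitePresentation f := locP_lfp_of_comp hX hY hZ f q hp1 hq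
  have hIm : IsOpen (Points.map f '' {x | IsFlatAtMor f x}) := isOpen_image_flatLocus hX hY f hflfp
  obtain ⟨W, w, hW, hw, H⟩ := exists_open_avoiding hZ
    (Points.map (f ≫ q) '' {x | IsFlatAtMor f x}ᶜ ∪
      Points.map q '' (Points.map f '' {x | IsFlatAtMor f x})ᶜ)
    ((hp3 _ hTo.isClosed_compl).union (hq2 _ hIm.isClosed_compl))
  refine ⟨W, w, hW, hw, fun Z' g hZ' => ?_⟩
  rw [H Z' g]
  constructor
  · intro h Y' gY q' hY' sqY X' gX f' hX' sqX
    refine ⟨?_, ?_⟩
    · intro y'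
      have hy : Points.map gY y' ∈ Points.map f '' {x | IsFlatAtMor f x} := by
        by_contra hn
        refine h (Points.map q' y') (Or.inr ⟨Points.map gY y', hn, ?_⟩)
        rw [← Points.map_comp, ← Points.map_comp, sqY.w]
      obtain ⟨x, -, hx⟩ := hy
      obtain ⟨x', -, hx'⟩ := exists_point_of_isPullback sqX x y' hx
      exact ⟨x', hx'⟩
    · refine Groth.Agent.Helper19.FibFlatLfp.locP_flat_of_forall_isFlatAtMor f' fun x' => ?_
      have hx' : x' ∈ {x' | IsFlatAtMor f' x'} := by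
        rw [hbc X' Y' Z' hX' hY' hZ' g f' q' gX gY sqY sqX]
        by_contra hn
        refine h (Points.map (f' ≫ q') x') (Or.inl ⟨Points.map gX x', hn, ?_⟩)
        rw [← Points.map_comp, ← Points.map_comp, (sqX.paste_vert sqY).w]
      exact hx'
  · intro h z' hz'
    have hY' : IsAlgSpace (pullback q g) := isAlgSpace_pullback hY hZ hZ' q g
    have hX' : IsAlgSpace (pullback f (pullback.fst q g)) :=
      isAlgSpace_pullback hX hY hY' f (pullback.fst q g)
    have sqY := IsPullback.of_hasPullback q g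
    have sqX := IsPullback.of_hasPullback f (pullback.fst q g)
    obtain ⟨hsurj, hfl⟩ := h _ _ _ hY' sqY _ _ _ hX' sqX
    have hmemAll : ∀ x' : Points (pullback f (pullback.fst q g)),
        Points.map (pullback.fst f (pullback.fst q g)) x' ∈ {x | IsFlatAtMor f x} := by
      intro x'
      have := Groth.Agent.Helper19.FibFlatLfp.isFlatAtMor_of_locP_flat _ hfl x'
      have hmem : x' ∈ {x' | IsFlatAtMor (pullback.snd f (pullback.fst q g)) x'} := this
      rw [hbc _ _ Z' hX' hY' hZ' g _ _ _ _ sqY sqX] at hmem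
      exact hmem
    rcases hz' with ⟨x, hx, hxz⟩ | ⟨y, hy, hyz⟩
    · obtain ⟨x', hx'1, -⟩ := exists_point_over sqY sqX x z' hxz
      have := hmemAll x'
      rw [hx'1] at this
      exact hx this
    · obtain ⟨y', hy'1, -⟩ := exists_point_of_isPullback sqY y z' hyz
      obtain ⟨x', hx'⟩ := hsurj y'
      refine hy ⟨_, hmemAll x', ?_⟩
      have e : Points.map f (Points.map (pullback.fst f (pullback.fst q g)) x') =
          Points.map (pullback.fst q g) (Points.map (pullback.snd f (pullback.fst q g)) x') := by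
        rw [← Points.map_comp, ← Points.map_comp, sqX.w]
      rw [e, hx', hy'1]

end Groth.Agent.Helper19.Where
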