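import Groth.Agent.Lib.Helper19.Where.Unram
import Groth.Agent.Lib.Helper15.AlgSpUniv
import Groth.Agent.Lib.Helper15.AlgSpProper2
import Groth.Agent.Lib.Helper16.AlgSp.LocPEngine

set_option autoImplicit false
set_option linter.style.haveILetI false
universe u
open CategoryTheory CategoryTheory.Limits AlgebraicGeometry MorphismProperty
open AlgSp Groth.Agent.Helper15 Groth.Agent.Helper16.AS

namespace Groth.Agent.Helper19.Where

variable {S : Scheme.{u}}

/-- the closed complement of an open subspace -/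
theorem exists_closed_of_open {Z W : Sp S} (hZ : IsAlgSpace Z) (w : W ⟶ Z)
    (hw : RepWith @IsOpenImmersion w) :
    ∃ C : Set (Points Z), IsClosed C ∧ ∀ (Z' : Sp S) (g : Z' ⟶ Z),
      ((∃ k : Z' ⟶ W, k ≫ w = g) ↔ ∀ z' : Points Z', Points.map g z' ∉ C) := by
  refine ⟨(Set.range (Points.map w))ᶜ,
    (Groth.Agent.Helper15.Norm.isOpen_range_of_isOpenImmersion hZ w hw).isClosed_compl,
    fun Z' g => ?_⟩
  rw [factors_through_open_iff w hw g]
  constructor
  · intro h z' hz'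
    exact hz' (h ⟨z', rfl⟩)
  · rintro h _ ⟨z', rfl⟩
    by_contra hn
    exact h z' hn

theorem isClosedMor_comp {A B C : Sp S} (a : A ⟶ B) (b : B ⟶ C) (ha : IsClosedMor a)
    (hb : IsClosedMor b) : IsClosedMor (a ≫ b) := by
  intro K hK
  have : Points.map (a ≫ b) '' K = Points.map b '' (Points.map a '' K) := by
    rw [Set.image_image]
    exact Set.image_congr fun x _ => Points.map_comp _ _ _
  rw [this]
  exact hb _ (ha _ hK)

/-- `X ×_Y X ⟶ Z` is closed if `X ⟶ Z` is universally closed and `Y ⟶ Z` is separated -/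
theorem isClosedMor_selfProd {X Y Z : Sp S} (hX : IsAlgSpace X) (hZ : IsAlgSpace Z)
    (f : X ⟶ Y) (q : Y ⟶ Z) (hp3 : IsUnivClosedMor (f ≫ q)) (hq3 : IsSeparatedMor q) :
    IsClosedMor (pullback.snd f f ≫ f ≫ q) := by
  have sqm := pullback_map_diagonal_isPullback f f q
  have hm : RepWith @IsClosedImmersion (pullback.map f f (f ≫ q) (f ≫ q) (𝟙 X) (𝟙 X) q
      (Category.id_comp _).symm (Category.id_comp _).symm) :=
    (RepWith @IsClosedImmersion).of_isPullback sqm hq3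
  have hPa : IsAlgSpace (pullback (f ≫ q) (f ≫ q)) := isAlgSpace_pullback hX hZ hX _ _
  obtain ⟨A, a, hae, has⟩ := hPa.atlas
  have hmc := isClosedMor_of_repWith _ (P := @IsClosedImmersion)
    (fun φ hφ => by
      haveI : IsClosedImmersion φ := hφ
      exact φ.isClosedEmbedding.isClosedMap) hm a hae has
  have hsc : IsClosedMor (pullback.snd (f ≫ q) (f ≫ q)) :=
    hp3 hX (f ≫ q) _ _ (IsPullback.of_hasPullback _ _)
  have hc : IsClosedMor (f ≫ q) := isClosedMor_of_isUnivClosedMor hZ _ hp3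
  have e : pullback.snd f f ≫ f ≫ q = pullback.map f f (f ≫ q) (f ≫ q) (𝟙 X) (𝟙 X) q
      (Category.id_comp _).symm (Category.id_comp _).symm ≫ pullback.snd (f ≫ q) (f ≫ q) ≫
        f ≫ q := by
    rw [← Category.assoc _ (pullback.snd (f ≫ q) (f ≫ q)), pullback.lift_snd, Category.comp_id]
  rw [e]
  exact isClosedMor_comp _ _ hmc (isClosedMor_comp _ _ hsc hc)

/-- the open subspace of `Z` over which `f` is an isomorphism -/
theorem where_iso {X Y Z : Sp S} (hX : IsAlgSpace X) (hY : IsAlgSpace Y) (hZ : IsAlgSpace Z)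
    (f : X ⟶ Y) (q : Y ⟶ Z) (hp1 : LocP @LocallyOfFinitePresentation (f ≫ q))
    (hp2 : LocP @Flat (f ≫ q)) (hp3 : IsUnivClosedMor (f ≫ q))
    (hq1 : LocP @LocallyOfFiniteType q) (hq2 : IsClosedMor q) (hq3 : IsSeparatedMor q) :
    ∃ (W : Sp S) (w : W ⟶ Z), IsAlgSpace W ∧ RepWith @IsOpenImmersion w ∧
      ∀ (Z' : Sp S) (g : Z' ⟶ Z), IsAlgSpace Z' →
        ((∃ k : Z' ⟶ W, k ≫ w = g) ↔
          ∀ (Y' : Sp S) (gY : Y' ⟶ Y) (q' : Y' ⟶ Z'), IsAlgSpace Y' → IsPullback gY q' q g →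
            ∀ (X' : Sp S) (gX : X' ⟶ X) (f' : X' ⟶ Y'), IsAlgSpace X' → IsPullback gX f' f gY →
              IsIso f') := by
  have hcl : IsClosedMor (f ≫ q) := isClosedMor_of_isUnivClosedMor hZ _ hp3
  obtain ⟨W₁, w₁, hW₁, hw₁, H₁⟩ := where_flat_surj hX hY hZ f q hp1 hp2 hcl hq1 hq2
  have hXXa : IsAlgSpace (pullback f f) := isAlgSpace_pullback hX hY hX f f
  have hlft : LocP @LocallyOfFiniteType (f ≫ q) := locP_mono lfp_le_lft hp1
  have hcl3 := isClosedMor_selfProd hX hZ f q hp3 hq3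
  obtain ⟨W₂, w₂, hW₂, hw₂, H₂⟩ := where_unram_inj hX hY hZ hXXa f q
    (IsPullback.of_hasPullback f f) hlft hcl3
  obtain ⟨C₁, hC₁, K₁⟩ := exists_closed_of_open hZ w₁ hw₁
  obtain ⟨C₂, hC₂, K₂⟩ := exists_closed_of_open hZ w₂ hw₂
  obtain ⟨W, w, hW, hw, H⟩ := exists_open_avoiding hZ (C₁ ∪ C₂) (hC₁.union hC₂)
  refine ⟨W, w, hW, hw, fun Z' g hZ' => ?_⟩
  rw [H Z' g]
  have hflfp : LocP @LocallyOfFinitePresentation f := locP_lfp_of_comp hX hY hZ f q hp1 hq1
  constructor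
  · intro h Y' gY q' hY' sqY X' gX f' hX' sqX
    have h1 := (H₁ Z' g hZ').1 ((K₁ Z' g).2 fun z' hz' => h z' (Or.inl hz')) Y' gY q' hY' sqY
      X' gX f' hX' sqX
    have h2 := (H₂ Z' g hZ').1 ((K₂ Z' g).2 fun z' hz' => h z' (Or.inr hz')) Y' gY q' hY' sqY
      X' gX f' hX' sqX
    have hlfp' : LocP @LocallyOfFinitePresentation f' :=
      locP_of_isPullback goodP_lfp srcEtLoc_lfp hX hY hY' sqX hflfp
    have het := isEtaleMor_of_lfp_flat_unramified hY' f' hlfp' h1.2 h2.1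
    have hoi := repWith_isOpenImmersion_of_isEtaleMor_univInjective hX' hY' f' het h2.2
    exact isIso_of_repWith_isOpenImmersion_surjective f' hoi
      (repWith_surjective_of_isSurjectiveMor _ hoi.rep h1.1)
  · intro h z' hz'
    have A : ∀ (Y' : Sp S) (gY : Y' ⟶ Y) (q' : Y' ⟶ Z'), IsAlgSpace Y' → IsPullback gY q' q g →
        ∀ (X' : Sp S) (gX : X' ⟶ X) (f' : X' ⟶ Y'), IsAlgSpace X' → IsPullback gX f' f gY →
          (IsSurjectiveMor f' ∧ LocP @Flat f') ∧
            (LocP (@LocallyOfFiniteType ⊓ @FormallyUnramified) f' ∧ IsUnivInjectiveMor f') := by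
      intro Y' gY q' hY' sqY X' gX f' hX' sqX
      haveI : IsIso f' := h Y' gY q' hY' sqY X' gX f' hX' sqX
      have hEt : LocP @Etale f' := locP_of_repWith le_rfl f' (repWith_of_isIso @Etale f')
      refine ⟨⟨fun y => ⟨Points.map (inv f') y, ?_⟩, locP_mono etale_le_flat hEt⟩,
        locP_mono etale_le_lft_unramified hEt, (injOnFieldPts_of_mono f').isUnivInjectiveMor⟩
      rw [← Points.map_comp, IsIso.inv_hom_id, Points.map_id]
    rcases hz' with hz' | hz'
    · exact (K₁ Z' g).1 ((H₁ Z' g hZ').2 fun Y' gY q' hY' sqY X' gX f' hX' sqX =>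
        (A Y' gY q' hY' sqY X' gX f' hX' sqX).1) z' hz'
    · exact (K₂ Z' g).1 ((H₂ Z' g hZ').2 fun Y' gY q' hY' sqY X' gX f' hX' sqX =>
        (A Y' gY q' hY' sqY X' gX f' hX' sqX).2) z' hz'

end Groth.Agent.Helper19.Where
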