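import Groth.Agent.Lib.Helper19.Where.Flat
import Groth.Agent.Lib.Helper15.UnrLocusSp
import Groth.Agent.Lib.Helper15.AlgSpUnram
import Groth.Agent.Lib.Helper15.AlgSpField
import Groth.Agent.Lib.Helper15.FiniteNear

set_option autoImplicit false
set_option linter.style.haveILetI false
universe u
open CategoryTheory CategoryTheory.Limits AlgebraicGeometry MorphismProperty
open AlgSp Groth.Agent.Helper15 Groth.Agent.Helper16.AS

namespace Groth.Agent.Helper19.Where

section cat

variable {C : Type*} [Category C] [HasPullbacks C]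

/-- base change of the self fibre product -/
theorem isPullback_selfProd {X Y X' Y' XX : C} {f : X ⟶ Y} {f' : X' ⟶ Y'} {gX : X' ⟶ X}
    {gY : Y' ⟶ Y} {pr0 pr1 : XX ⟶ X} (hXX : IsPullback pr0 pr1 f f)
    (sqX : IsPullback gX f' f gY) :
    IsPullback (hXX.lift (pullback.fst f' f' ≫ gX) (pullback.snd f' f' ≫ gX)
        (by rw [Category.assoc, Category.assoc, sqX.w, ← Category.assoc, pullback.condition,
          Category.assoc]))
      (pullback.snd f' f') pr1 gX := by
  have h1 : IsPullback (pullback.fst f' f' ≫ gX) (pullback.snd f' f') f (f' ≫ gY) :=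
    (IsPullback.of_hasPullback f' f').paste_horiz sqX
  refine IsPullback.of_right (h₁₂ := pr0) (v₁₃ := f) (h₂₂ := f) ?_ ?_ hXX
  · rw [hXX.lift_fst, sqX.w]
    exact h1
  · rw [hXX.lift_snd]

/-- base change of the diagonal -/
theorem isPullback_diag {X Y X' Y' XX : C} {f : X ⟶ Y} {f' : X' ⟶ Y'} {gX : X' ⟶ X}
    {gY : Y' ⟶ Y} {pr0 pr1 : XX ⟶ X} (hXX : IsPullback pr0 pr1 f f)
    (sqX : IsPullback gX f' f gY) :
    IsPullback (pullback.diagonal f') gX
      (hXX.lift (pullback.fst f' f' ≫ gX) (pullback.snd f' f' ≫ gX)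
        (by rw [Category.assoc, Category.assoc, sqX.w, ← Category.assoc, pullback.condition,
          Category.assoc]))
      (hXX.lift (𝟙 X) (𝟙 X) rfl) := by
  refine IsPullback.of_right (h₁₂ := pullback.snd f' f') (v₁₃ := gX) (h₂₂ := pr1) ?_ ?_
    (isPullback_selfProd hXX sqX).flip
  · rw [pullback.diagonal_snd, hXX.lift_snd]
    exact IsPullback.of_horiz_isIso ⟨by simp⟩
  · apply hXX.hom_ext
    · rw [Category.assoc, hXX.lift_fst, Category.assoc, hXX.lift_fst, ← Category.assoc,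
        pullback.diagonal_fst, Category.id_comp, Category.comp_id]
    · rw [Category.assoc, hXX.lift_snd, Category.assoc, hXX.lift_snd, ← Category.assoc,
        pullback.diagonal_snd, Category.id_comp, Category.comp_id]

end cat

variable {S : Scheme.{u}}

/-- `f` is unramified at the point `x` (in the sense of S10312) -/
abbrev UnrAt {X Y : Sp S} (f : X ⟶ Y) (x : Points X) : Prop :=
  HasAtMor (fun U _ h u => ∃ W : U.Opens, u ∈ W ∧
    (@LocallyOfFiniteType ⊓ @FormallyUnramified : MorphismProperty Scheme.{u}) (W.ι ≫ h)) f x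

theorem lftFU_iff : ∀ ⦃A B : Scheme.{u}⦄ (g : A ⟶ B),
    (@LocallyOfFiniteType ⊓ @FormallyUnramified : MorphismProperty Scheme.{u}) g ↔
      (LocallyOfFiniteType g ∧ FormallyUnramified g) := fun _ _ _ => Iff.rfl

theorem unrAt_iff {X Y : Sp S} (hX : IsAlgSpace X) (hY : IsAlgSpace Y) (f : X ⟶ Y)
    (x : Points X) :
    UnrAt f x ↔ ∃ (X' : Sp S) (j : X' ⟶ X), IsAlgSpace X' ∧ RepWith @IsOpenImmersion j ∧
        x ∈ Set.range (Points.map j) ∧
        LocP (@LocallyOfFiniteType ⊓ @FormallyUnramified) (j ≫ f) :=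
  hasAtMor_nbhd_iff_exists_open_subspace _
    (Or.inr (Or.inr (Or.inr (Or.inr (Or.inr (Or.inr lftFU_iff)))))) hX hY f x

/-- a morphism is unramified iff it is so at every point -/
theorem locP_unram_iff_forall {X Y : Sp S} (hX : IsAlgSpace X) (hY : IsAlgSpace Y) (f : X ⟶ Y) :
    LocP (@LocallyOfFiniteType ⊓ @FormallyUnramified) f ↔ ∀ x, UnrAt f x := by
  constructor
  · intro h x
    refine (unrAt_iff hX hY f x).2 ⟨X, 𝟙 X, hX, repWith_of_isIso _ (𝟙 X), ⟨x, Points.map_id x⟩, ?_⟩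
    rwa [Category.id_comp]
  · intro h U V a b φ ha hb comm
    have key : ∀ u : U.left, ∃ W : U.left.Opens, u ∈ W ∧
        (@LocallyOfFiniteType ⊓ @FormallyUnramified : MorphismProperty Scheme.{u})
          (W.ι ≫ φ.left) := by
      intro u
      obtain ⟨X₀, j, hX₀, hj, hmem, hloc⟩ := (unrAt_iff hX hY f _).1 (h (Points.ofPt a u))
      exact Groth.Agent.Helper15.ChartBC.exists_nbhd_of_open_subspace f j hj hloc a b φ ha hb comm
        u hmem
    choose W hW1 hW2 using key
    have hsup : iSup W = ⊤ := by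
      rw [eq_top_iff]
      intro u _
      exact TopologicalSpace.Opens.mem_iSup.2 ⟨u, hW1 u⟩
    exact ⟨IsZariskiLocalAtSource.of_iSup_eq_top W hsup fun u => (hW2 u).1,
      IsZariskiLocalAtSource.of_iSup_eq_top W hsup fun u => (hW2 u).2⟩

/-- the unramified locus is open -/
theorem isOpen_unrLocus {X Y : Sp S} (f : X ⟶ Y) : IsOpen {x | UnrAt f x} :=
  Groth.Agent.Helper15.ChartBC.isOpen_setOf_hasAtMor_nbhd _ f

/-- the image of the unramified locus under the diagonal is open -/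
theorem isOpen_diag_unrLocus {X Y XX : Sp S} (hX : IsAlgSpace X) (hY : IsAlgSpace Y)
    (hXXa : IsAlgSpace XX) (f : X ⟶ Y) {pr0 pr1 : XX ⟶ X} (hXX : IsPullback pr0 pr1 f f) :
    IsOpen (Points.map (hXX.lift (𝟙 X) (𝟙 X) rfl) '' {x | UnrAt f x}) := by
  rw [isOpen_iff_forall_mem_open]
  rintro _ ⟨t, ht, rfl⟩
  obtain ⟨X₀, j, hX₀, hj, ⟨t₀, rfl⟩, hloc⟩ := (unrAt_iff hX hY f t).1 ht
  have hd : RepWith @IsOpenImmersion (pullback.diagonal (j ≫ f)) :=
    repWith_isOpenImmersion_diagonal_of_locP_unramified hX₀ hY (j ≫ f) hloc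
  have hm := repWith_pullback_map_of_repWith (P := @IsOpenImmersion) f j hj
  have he : RepWith @IsOpenImmersion (j ≫ hXX.lift (𝟙 X) (𝟙 X) rfl) := by
    have e : j ≫ hXX.lift (𝟙 X) (𝟙 X) rfl = pullback.diagonal (j ≫ f) ≫
        pullback.map (j ≫ f) (j ≫ f) f f j j (𝟙 Y) (by simp) (by simp) ≫ hXX.isoPullback.inv := by
      apply hXX.hom_ext
      · simp only [Category.assoc, hXX.lift_fst, Category.comp_id, hXX.isoPullback_inv_fst]
        rw [pullback.lift_fst, ← Category.assoc, pullback.diagonal_fst, Category.id_comp]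
      · simp only [Category.assoc, hXX.lift_snd, Category.comp_id, hXX.isoPullback_inv_snd]
        rw [pullback.lift_snd, ← Category.assoc, pullback.diagonal_snd, Category.id_comp]
    rw [e]
    exact (RepWith @IsOpenImmersion).comp_mem _ _ hd
      ((RepWith @IsOpenImmersion).comp_mem _ _ hm (repWith_of_isIso _ _))
  refine ⟨Set.range (Points.map (j ≫ hXX.lift (𝟙 X) (𝟙 X) rfl)), ?_,
    Groth.Agent.Helper15.Norm.isOpen_range_of_isOpenImmersion hXXa _ he, ⟨t₀, ?_⟩⟩
  · rintro _ ⟨s, rfl⟩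
    refine ⟨Points.map j s, (unrAt_iff hX hY f _).2 ⟨X₀, j, hX₀, hj, ⟨s, rfl⟩, hloc⟩, ?_⟩
    rw [Points.map_comp]
  · rw [Points.map_comp]

/-- the open subspace of `Z` over which `f` is unramified and universally injective -/
theorem where_unram_inj {X Y Z XX : Sp S} (hX : IsAlgSpace X) (hY : IsAlgSpace Y)
    (hZ : IsAlgSpace Z) (hXXa : IsAlgSpace XX) (f : X ⟶ Y) (q : Y ⟶ Z) {pr0 pr1 : XX ⟶ X}
    (hXX : IsPullback pr0 pr1 f f) (hp1 : LocP @LocallyOfFiniteType (f ≫ q))
    (hp3 : IsClosedMor (pr1 ≫ f ≫ q)) :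
    ∃ (W : Sp S) (w : W ⟶ Z), IsAlgSpace W ∧ RepWith @IsOpenImmersion w ∧
      ∀ (Z' : Sp S) (g : Z' ⟶ Z), IsAlgSpace Z' →
        ((∃ k : Z' ⟶ W, k ≫ w = g) ↔
          ∀ (Y' : Sp S) (gY : Y' ⟶ Y) (q' : Y' ⟶ Z'), IsAlgSpace Y' → IsPullback gY q' q g →
            ∀ (X' : Sp S) (gX : X' ⟶ X) (f' : X' ⟶ Y'), IsAlgSpace X' → IsPullback gX f' f gY →
              (LocP (@LocallyOfFiniteType ⊓ @FormallyUnramified) f' ∧
                IsUnivInjectiveMor f')) := by
  have hopen := isOpen_diag_unrLocus hX hY hXXa f hXX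
  obtain ⟨W, w, hW, hw, H⟩ := exists_open_avoiding hZ
    (Points.map (pr1 ≫ f ≫ q) '' (Points.map (hXX.lift (𝟙 X) (𝟙 X) rfl) '' {x | UnrAt f x})ᶜ)
    (hp3 _ hopen.isClosed_compl)
  refine ⟨W, w, hW, hw, fun Z' g hZ' => ?_⟩
  rw [H Z' g]
  have hbc : ∀ (X' Y' : Sp S) (_ : IsAlgSpace X') (_ : IsAlgSpace Y') (gY : Y' ⟶ Y)
      (gX : X' ⟶ X) (f' : X' ⟶ Y') (_ : IsPullback gX f' f gY),
      {x' | UnrAt f' x'} = Points.map gX ⁻¹' {x | UnrAt f x} :=
    fun X' Y' hX' hY' gY gX f' sqX =>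
      Groth.Agent.Helper15.ChartBC.unramified_locus_baseChange hX hY hZ hY' hX' f q hp1 gY gX f' sqX
  constructor
  · intro h Y' gY q' hY' sqY X' gX f' hX' sqX
    have h1 : ∀ x' : Points X', UnrAt f (Points.map gX x') := by
      intro x'
      by_contra hn
      refine h (Points.map (f' ≫ q') x')
        ⟨Points.map (hXX.lift (𝟙 X) (𝟙 X) rfl) (Points.map gX x'), ?_, ?_⟩
      · rintro ⟨t, ht, hte⟩
        have e := congrArg (Points.map pr0) hte
        rw [← Points.map_comp, ← Points.map_comp, hXX.lift_fst, Points.map_id, Points.map_id] at e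
        exact hn (e ▸ ht)
      · have e : gX ≫ hXX.lift (𝟙 X) (𝟙 X) rfl ≫ pr1 ≫ f ≫ q = (f' ≫ q') ≫ g := by
          rw [← Category.assoc _ pr1, hXX.lift_snd, Category.id_comp,
            (sqX.paste_vert sqY).w]
        rw [← Points.map_comp, ← Points.map_comp, ← Points.map_comp, e]
    have hunr : LocP (@LocallyOfFiniteType ⊓ @FormallyUnramified) f' := by
      refine (locP_unram_iff_forall hX' hY' f').2 fun x' => ?_
      have hmem : x' ∈ {x' | UnrAt f' x'} := by
        rw [hbc X' Y' hX' hY' gY gX f' sqX]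
        exact h1 x'
      exact hmem
    refine ⟨hunr, ?_⟩
    have hsurj : IsSurjectiveMor (pullback.diagonal f') := by
      intro ξ'
      have sqA := isPullback_selfProd hXX sqX
      have sqB := isPullback_diag hXX sqX
      have hmem : Points.map (hXX.lift (pullback.fst f' f' ≫ gX) (pullback.snd f' f' ≫ gX)
          (by rw [Category.assoc, Category.assoc, sqX.w, ← Category.assoc, pullback.condition,
            Category.assoc])) ξ' ∈ Points.map (hXX.lift (𝟙 X) (𝟙 X) rfl) '' {x | UnrAt f x} := by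
        by_contra hn
        refine h (Points.map (pullback.snd f' f' ≫ f' ≫ q') ξ') ⟨_, hn, ?_⟩
        rw [← Points.map_comp, ← Points.map_comp, (sqA.paste_vert (sqX.paste_vert sqY)).w]
      obtain ⟨t, -, ht⟩ := hmem
      obtain ⟨x', hx'1, -⟩ := exists_point_of_isPullback sqB ξ' t ht.symm
      exact ⟨x', hx'1⟩
    exact (injOnFieldPts_of_isSurjectiveMor_diagonal hX'.diag hsurj).isUnivInjectiveMor
  · intro h z' hz'
    obtain ⟨ξ, hξ, hξz⟩ := hz'
    have hY' : IsAlgSpace (pullback q g) := isAlgSpace_pullback hY hZ hZ' q g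
    have hX' : IsAlgSpace (pullback f (pullback.fst q g)) :=
      isAlgSpace_pullback hX hY hY' f (pullback.fst q g)
    have sqY := IsPullback.of_hasPullback q g
    have sqX := IsPullback.of_hasPullback f (pullback.fst q g)
    obtain ⟨hunr, hinj⟩ := h _ _ _ hY' sqY _ _ _ hX' sqX
    have sqA := isPullback_selfProd hXX sqX
    have sqB := isPullback_diag hXX sqX
    obtain ⟨ξ', hξ'1, -⟩ :=
      exists_point_of_isPullback (sqA.paste_vert (sqX.paste_vert sqY)) ξ z' hξz
    have hs : IsSurjectiveMor (pullback.diagonal (pullback.snd f (pullback.fst q g))) :=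
      (injOnFieldPts_of_isUnivInjectiveMor hX'.diag hinj).isSurjectiveMor_diagonal
    obtain ⟨x', hx'⟩ := hs ξ'
    refine hξ ⟨Points.map (pullback.fst f (pullback.fst q g)) x', ?_, ?_⟩
    · have hmem : x' ∈ {x' | UnrAt (pullback.snd f (pullback.fst q g)) x'} :=
        (locP_unram_iff_forall hX' hY' _).1 hunr x'
      rw [hbc _ _ hX' hY' _ _ _ sqX] at hmem
      exact hmem
    · rw [← hξ'1, ← hx', ← Points.map_comp, ← Points.map_comp, sqB.w]

end Groth.Agent.Helper19.Where
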